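import Cfsg.Agent.Lib.CosetEnum.Defs

/-! Generated table data. -/

set_option autoImplicit false
set_option maxRecDepth 20000

namespace Cfsg.Lib.CosetEnum.Fi23Sub_bcdefgh

/-- Table data. -/
def tabC_1_0 : Tab :=
  (.node 32 (.node 16 (.node 8 (.node 4 (.node 2 (.node 1 (.leaf 0x1001a6400a3e001a64000010007dc00014) (.leaf 0x100167400a3f0016740000100080400010)) (.node 1 (.leaf 0x1000ac800a40000ac8000010008340000b) (.leaf 0x10004b0001100025800012c000440000020003d400019))) (.node 2 (.node 1 (.leaf 0x100191000644002908000020004b40001a) (.leaf 0x100158000a430015800000100052400013)) (.node 1 (.leaf 0x10018f800a440018f8000010005900000f) (.leaf 0x10014cc00a450014cc000010005e40000a)))) (.node 4 (.node 2 (.node 1 (.leaf 0x10006580017c000fd40017d0005880000200051c00019) (.leaf 0x100190000a470018fc000010005f80000f)) (.node 1 (.leaf 0x10014d800a480014d0000010006500000a) (.leaf 0x10015dc00a480015d40000100065000013))) (.node 2 (.node 1 (.leaf 0x10014dc00a4a0014d4000010006b00000a) (.leaf 0x1000c1400a4b000c0c000010006ec0000f)) (.node 1 (.leaf 0x1001a4000693002928000020006b00001a)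 (.leaf 0x100152800a4d001524000010007040000a))))) (.node 8 (.node 4 (.node 2 (.node 1 (.leaf 0x1000c1800a4e000c10000010007340000f) (.leaf 0x1000d3000a4f000d2c0000100078800013)) (.node 1 (.leaf 0x100218c00a4a00218c00a4a002100000030006b000016) (.leaf 0x10014e000a510014e0000010007600000a))) (.node 2 (.node 1 (.leaf 0x1000c1c00a52000c1c000010007940000f) (.leaf 0x1000d3400a53000d34000010007e000013)) (.node 1 (.leaf 0x1001a5800696002944000020007600001a) (.leaf 0x100152c00a5500152c000010007ac0000a)))) (.node 4 (.node 2 (.node 1 (.leaf 0x1000c2000a56000c20000010007c40000f) (.leaf 0x100165400a55001654000010007ac00013)) (.node 1 (.leaf 0x100153000a58001530000010007ec0000a) (.leaf 0x1000c2400a58000c24000010007ec0000f))) (.node 2 (.node 1 (.leaf 0x1000a2400a5a000a24000010008240000a) (.leaf 0x1000c2800a59000c28000010007fc0000f)) (.node 1 (.leaf 0x1000a2800a5c000a28000010008380000a) (.leaf 0x1000d3800a57000d380000100080800013)))))) (.node 16 (.node 8 (.node 4 (.node 2 (.node 1 (.leaf 0x100166800a5e001668000010008400000f) (.leaf 0x1000a2c00a5f000a2c000010008680000a))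 (.node 1 (.leaf 0x100084c00213002950000020008180001a) (.leaf 0x1001a6c00a61001a6c0000100085000013))) (.node 2 (.node 1 (.leaf 0x100168000a62001680000010008780000f) (.leaf 0x1000ad800a63000ad8000010008940000a)) (.node 1 (.leaf 0x10008780036100294000212000d80000020007d400016) (.leaf 0x10021e800a650021e800a6500212c0000300084c00012)))) (.node 4 (.node 2 (.node 1 (.leaf 0x100167000a66001670000010008980000e) (.leaf 0x1000a3400a67000a34000010008ac00009)) (.node 1 (.leaf 0x10008b40022d0029980000200089800018) (.leaf 0x100168800a69001688000010008b80000e))) (.node 2 (.node 1 (.leaf 0x1000ae400a6a000ae4000010008c800009) (.leaf 0x10008e4002360029a8002390008d8000020008c800012)) (.node 1 (.leaf 0x1000aec00a6c000aec000010008e800008) (.leaf 0x10008f4002cf0029b40023d000b3c000020008f00000d))))) (.node 8 (.node 4 (.node 2 (.node 1 (.leaf 0x10008f80023e0029b8000020008f800011) (.leaf 0x10008480020400084800204002238000030007d000019)) (.node 1 (.leaf 0x100299400a700029940000100084c00017) (.leaf 0x10021e800a710021e80000100087c00014))) (.node 2 (.node 1 (.leaf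 0x100167000a720016700000100089800010) (.leaf 0x1000a3400a73000a34000010008ac0000b)) (.node 1 (.leaf 0x10008b40022d0029c8000020008980001b) (.leaf 0x100168800a75001688000010008b800010)))) (.node 4 (.node 2 (.node 1 (.leaf 0x1000ae400a76000ae4000010008c80000b) (.leaf 0x10008d800a760008d8000010008c800014)) (.node 1 (.leaf 0x1000ae800a78000ae8000010008dc0000b) (.leaf 0x10008e800a790008e8000010008e000010))) (.node 2 (.node 1 (.leaf 0x10008e400a780008e4000010008dc00017) (.leaf 0x1000aec00a7b000aec000010008e80000b)) (.node 1 (.leaf 0x1000b3c00a7c000b3c000010008f000010) (.leaf 0x10008f400a7d0008f4000010008f400014)))))))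

/-- Table data. -/
def tabC_1_1 : Tab :=
  (.leaf 0x10008f80023e0029f8000020008f80001b)

/-- Table data. -/
def tabC_1 : Tab :=
  (.node 64 tabC_1_0 tabC_1_1)

end Cfsg.Lib.CosetEnum.Fi23Sub_bcdefgh
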